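import Cfsg.Agent.H0.MHe.D
import Cfsg.Agent.H0.RHeA.Main
import Cfsg.Agent.H0.TCHe4.Main
import Cfsg.Agent.H0.TCHe3.Main
import Cfsg.Agent.H0.TCHe2.Main
import Cfsg.Agent.H0.TCHe1.Main
import Cfsg.Agent.H0.TCHe0.Main
set_option maxRecDepth 100000
namespace H0.MHe
open H0 BN 
theorem rels : ∀ r ∈ B, ev R.p r = 1 := all_take_done (all_take_step (all_take_zero _ B) (rels_of_relsW R c0)) (by decide +kernel)
theorem defs_ok : DefsOK R.p defs 7 := defsOK_of_chk c1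
variable {G : Type} [Group G] (P : Pres G 7 B)
noncomputable def m : Model G := P.model defs R rels (by decide +kernel) defs_ok R_ge
include P
theorem mR : (m P).R = R := rfl
theorem g_eq {x : ℕ} (h : x < 7) : (m P).g x = P.g x := extG_out defs P.g 7 (Or.inl h)
theorem top : gen (m P).g (lets 7) = ⊤ := (gen_extG defs P.g 7 (by decide)).trans P.top
theorem grel : ∀ r ∈ B, ev (m P).g r = 1 := rels_extG defs 7 (by decide +kernel) P.rel
theorem hi : ∀ x < 7, (m P).g x * (m P).g (inv x) = 1 := inv_of_invChk (grel P) (by decide +kernel)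
theorem extra : ∀ r ∈ H0.RHeA.W.map (subst [[0], [1], [2], [3], [4]]), ev (m P).g r = 1 :=
  subst_rels (H0.RHeA.derived _ (unsubst_rels (rels_of_consChk (grel P) 7 inv (by decide +kernel))))
theorem upper : Finite G ∧ Nat.card G ≤ 4030387200 := card_of_top (top P) ((chain_step (σ := [[0], [1], [2], [3], [4], [5], [6]]) (n := 49980) H0.TCHe1.main rfl rfl (rels_of_consChk (rels_append (grel P) (extra P)) 7 inv (by decide +kernel)) (chain_step (σ := [[0], [2], [3], [4], [5], [6]]) (n := 336) H0.TCHe2.main rfl rfl (rels_of_consChk (rels_append (grel P) (extra P)) 7 inv (by decide +kernel)) (chain_step (σ := [[0], [2], [3], [5]]) (n := 12) H0.TCHe3.main rfl rfl (rels_of_consChk (rels_append (grel P) (extra P)) 7 inv (by decide +kernel)) (chain_step (σ := [[0], [2], [3]]) (n := 20) H0.TCHe4.main rfl rfl (rels_of_consChk (rels_append (grel P) (extra P)) 7 inv (by decide +kernel)) (chain_start _))))).imp_right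 fun h => h.trans (by decide +kernel))
theorem fin : Finite G := (upper P).1
theorem card_base : Nat.card G = 4030387200 ∧ (m P).pst [1361, 416, 1, 0] = ⊥ :=
  haveI := fin P
  (m P).card_done ((m P).card_step (lo := 1361) (d := 4) (Model.via _ (mR P) (fun R => Model.fixW R [416, 1, 0] [[13], [14]]) c8) ((m P).inOrb_grow [0, 1] ((m P).inOrb_self _ 1361) (Model.via _ (mR P) (fun R => Model.growW R [[13], [14]] [0, 1] (Nat.pow 2 1361) (ival 1361 4)) c9)) (Model.via _ (mR P) (fun R => Nat.ble (1361 + 4) R.N) (by decide +kernel)) ((m P).card_step (lo := 416) (d := 360) (Model.via _ (mR P) (fun R => Model.fixW R [1, 0] [[11], [12]]) c6) ((m P).inOrb_grow [0, 1, 0, 0, 1, 0, 1, 0, 0, 1, 0, 1, 0, 0, 1, 0, 1, 0, 0] ((m P).inOrb_self _ 416) (Model.via _ (mR P) (fun R => Model.growW R [[11], [12]] [0, 1, 0, 0, 1, 0, 1, 0, 0, 1, 0, 1, 0, 0, 1, 0, 1, 0, 0] (Nat.pow 2 416) (ival 416 360)) c7)) (Model.via _ (mR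 P) (fun R => Nat.ble (416 + 360) R.N) (by decide +kernel)) ((m P).card_step (lo := 1) (d := 1360) (Model.via _ (mR P) (fun R => Model.fixW R [0] [[9], [10]]) c4) ((m P).inOrb_grow [0, 1, 0, 1, 0, 1, 0, 1, 0, 1, 0, 1, 0, 1, 0, 1, 0, 1] ((m P).inOrb_self _ 1) (Model.via _ (mR P) (fun R => Model.growW R [[9], [10]] [0, 1, 0, 1, 0, 1, 0, 1, 0, 1, 0, 1, 0, 1, 0, 1, 0, 1] (Nat.pow 2 1) (ival 1 1360)) c5)) (Model.via _ (mR P) (fun R => Nat.ble (1 + 1360) R.N) (by decide +kernel)) ((m P).card_step (lo := 0) (d := 2058) (Model.via _ (mR P) (fun R => Model.fixW R [] [[7], [8]]) c2) ((m P).inOrb_grow [0, 1, 0, 1, 0, 1, 0, 1, 0, 1, 0, 1, 0, 1, 0, 1, 0, 1, 0] ((m P).inOrb_self _ 0) (Model.via _ (mR P) (fun R => Model.growW R [[7], [8]] [0, 1, 0, 1, 0, 1, 0, 1, 0, 1, 0, 1, 0, 1, 0, 1, 0, 1, 0] (Nat.pow 2 0) (ival 0 2058)) c3)) (Model.via _ (mR P) (fun R => Nat.ble (0 + 2058) R.N) (by decide +kernel)) ((m P).card_start)))))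 (upper P).2 (by decide +kernel)
theorem card : Nat.card G = 4030387200 := (card_base P).1
theorem base : (m P).pst [1361, 416, 1, 0] = ⊥ := (card_base P).2
theorem inj : Function.Injective (m P).φ := (m P).inj_of_base (base P)
theorem trans : (m P).orb ⊤ 0 = Set.Ico 0 (0 + 2058) :=
  (m P).orb_eq_ico' ((m P).inOrb_mono le_top ((m P).inOrb_grow [0, 1, 0, 1, 0, 1, 0, 1, 0, 1, 0, 1, 0, 1, 0, 1, 0, 1, 0] ((m P).inOrb_self _ 0) (Model.via _ (mR P) (fun R => Model.growW R [[7], [8]] [0, 1, 0, 1, 0, 1, 0, 1, 0, 1, 0, 1, 0, 1, 0, 1, 0, 1, 0] (Nat.pow 2 0) (ival 0 2058)) c10))) (top P).ge (Model.via _ (mR P) (fun R => Model.invW R [[0], [1], [2], [3], [4], [5], [6]] 0 2058) c11) (by decide)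
theorem sub1 : (m P).InOrb (gen (m P).g [[9], [10]]) 137 (ival 1 1360) := ((m P).inOrb_grow [0, 1, 0, 1, 0, 1, 0, 1, 0, 1, 0, 1, 0, 1, 0, 1, 0, 0] ((m P).inOrb_self _ 137) (Model.via _ (mR P) (fun R => Model.growW R [[9], [10]] [0, 1, 0, 1, 0, 1, 0, 1, 0, 1, 0, 1, 0, 1, 0, 1, 0, 0] (Nat.pow 2 137) (ival 1 1360)) c13))
theorem sub1361 : (m P).InOrb (gen (m P).g [[9], [10]]) 1561 (ival 1361 425) := ((m P).inOrb_grow [0, 1, 0, 1, 0, 1, 0, 1, 0, 1, 0, 1, 0, 1, 0, 0] ((m P).inOrb_self _ 1561) (Model.via _ (mR P) (fun R => Model.growW R [[9], [10]] [0, 1, 0, 1, 0, 1, 0, 1, 0, 1, 0, 1, 0, 1, 0, 0] (Nat.pow 2 1561) (ival 1361 425)) c16))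
theorem sub1786 : (m P).InOrb (gen (m P).g [[9], [10]]) 1788 (ival 1786 136) := ((m P).inOrb_grow [0, 1, 0, 1, 0, 1, 0, 1, 0, 1, 0, 1, 0, 0] ((m P).inOrb_self _ 1788) (Model.via _ (mR P) (fun R => Model.growW R [[9], [10]] [0, 1, 0, 1, 0, 1, 0, 1, 0, 1, 0, 1, 0, 0] (Nat.pow 2 1788) (ival 1786 136)) c19))
theorem sub1922 : (m P).InOrb (gen (m P).g [[9], [10]]) 2039 (ival 1922 136) := ((m P).inOrb_grow [0, 1, 0, 1, 0, 1, 0, 1, 0, 1, 0, 1] ((m P).inOrb_self _ 2039) (Model.via _ (mR P) (fun R => Model.growW R [[9], [10]] [0, 1, 0, 1, 0, 1, 0, 1, 0, 1, 0, 1] (Nat.pow 2 2039) (ival 1922 136)) c22))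
theorem coatom : IsCoatom ((m P).pst [0]) := (m P).coatom (trans P) (by decide) ((m P).maxUpTo_step ((m P).maxUpTo_step ((m P).maxUpTo_step ((m P).maxUpTo_step ((m P).maxUpTo_one 2058) (Model.via _ (mR P) (fun R => Model.fixW R [0] [[9], [10]]) c12) (sub1 P) (Model.via _ (mR P) (fun R => Nat.ble (1 + 1360) R.N) (by decide +kernel)) (Model.via _ (mR P) (fun R => Nat.ble (0 + 2058) R.N) (by decide +kernel)) (Model.via _ (mR P) (fun R => mapsW R [8] (Nat.pow 2 0) (Nat.pow 2 137)) c14) ((m P).inOrb_grow [0, 0, 1, 2, 0, 1, 2, 0, 1, 2, 0, 1, 2, 0, 1, 2, 0] ((m P).inOrb_self _ 0) (Model.via _ (mR P) (fun R => Model.growW R [[8], [9], [10]] [0, 0, 1, 2, 0, 1, 2, 0, 1, 2, 0, 1, 2, 0, 1, 2, 0] (Nat.pow 2 0) (ival 0 2058)) c15))) (Model.via _ (mR P) (fun R => Model.fixW R [0] [[9], [10]]) c12) (sub1361 P) (Model.via _ (mR P) (fun R => Nat.ble (1361 + 425) R.N) (by decide +kernel)) (Model.via _ (mR P) (fun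 R => Nat.ble (0 + 2058) R.N) (by decide +kernel)) (Model.via _ (mR P) (fun R => mapsW R [7] (Nat.pow 2 0) (Nat.pow 2 1561)) c17) ((m P).inOrb_grow [0, 0, 1, 2, 0, 1, 2, 0, 1, 2, 0, 1, 2, 0, 1, 0, 2] ((m P).inOrb_self _ 0) (Model.via _ (mR P) (fun R => Model.growW R [[7], [9], [10]] [0, 0, 1, 2, 0, 1, 2, 0, 1, 2, 0, 1, 2, 0, 1, 0, 2] (Nat.pow 2 0) (ival 0 2058)) c18))) (Model.via _ (mR P) (fun R => Model.fixW R [0] [[9], [10]]) c12) (sub1786 P) (Model.via _ (mR P) (fun R => Nat.ble (1786 + 136) R.N) (by decide +kernel)) (Model.via _ (mR P) (fun R => Nat.ble (0 + 2058) R.N) (by decide +kernel)) (Model.via _ (mR P) (fun R => mapsW R [7, 8, 7] (Nat.pow 2 0) (Nat.pow 2 1788)) c20) ((m P).inOrb_grow [0, 0, 1, 2, 0, 1, 2, 0, 1, 2, 0, 1, 2, 0, 1, 0, 0] ((m P).inOrb_self _ 0) (Model.via _ (mR P) (fun R => Model.growW R [[7, 8, 7], [9], [10]] [0, 0, 1, 2, 0, 1, 2, 0, 1, 2, 0, 1, 2, 0, 1, 0, 0] (Nat.pow 2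 0) (ival 0 2058)) c21))) (Model.via _ (mR P) (fun R => Model.fixW R [0] [[9], [10]]) c12) (sub1922 P) (Model.via _ (mR P) (fun R => Nat.ble (1922 + 136) R.N) (by decide +kernel)) (Model.via _ (mR P) (fun R => Nat.ble (0 + 2058) R.N) (by decide +kernel)) (Model.via _ (mR P) (fun R => mapsW R [8, 8, 7, 8] (Nat.pow 2 0) (Nat.pow 2 2039)) c23) ((m P).inOrb_grow [0, 0, 1, 2, 0, 1, 2, 0, 1, 2, 0, 1, 2, 0, 1, 0, 0] ((m P).inOrb_self _ 0) (Model.via _ (mR P) (fun R => Model.growW R [[8, 8, 7, 8], [9], [10]] [0, 0, 1, 2, 0, 1, 2, 0, 1, 2, 0, 1, 2, 0, 1, 0, 0] (Nat.pow 2 0) (ival 0 2058)) c24)))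
theorem ng : ∀ N : Subgroup G, N.Normal → ev (m P).g [15] ∈ N → N = ⊤ :=
  ng_top (hi P) ngSt [15] (by decide) (all_take_done (all_take_step (all_take_zero _ ngR) ((m P).ev_one (inj P) (Model.via _ (mR P) (fun R => relsW R 0 R.lg ((ngR.drop 0).take 14)) c25))) (by decide +kernel)) (top P) (by decide)
theorem card_stab : Nat.card ((m P).pst [0]) = 1958400 := (m P).card_stab (trans P) (by rw [card P]) (by decide)
theorem simple : IsSimpleGroup G :=
  haveI := fin P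
  simple_of_coatom _ (coatom P) (fun N hN h => (m P).normal_le_stab (trans P) (base P) (by decide) N h)
    (ev (m P).g [15]) 7 (by rw [← ev_wpow]; exact (all_take_done (all_take_step (all_take_zero _ xR) ((m P).ev_one (inj P) (Model.via _ (mR P) (fun R => relsW R 0 R.lg ((xR.drop 0).take 1)) c26))) (by decide +kernel)) _ (List.mem_singleton_self _))
    (by rw [card_stab P]; decide +kernel) (ng P)
theorem stab : (gen (m P).g subs).index = 2058 ∧ gen (m P).g subs = (m P).pst [0] :=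
  (m P).stab_index ((m P).gen_le_pst (Model.via _ (mR P) (fun R => Model.fixW R [0] [[0], [2], [3], [4], [5], [0, 1, 0, 1], [1, 2, 3, 4, 1, 2, 3, 4, 1, 2, 3, 4, 1, 2, 3, 4, 1, 2, 3, 4, 1, 2, 3, 4, 1, 2, 3, 4]]) c27)) (top P ▸ chain_index (σ := lets 7) H0.TCHe0.main rfl rfl (rels_of_consChk (grel P) 7 inv (by decide +kernel))) (trans P)
theorem gsubs : gen (m P).g subs = gen P.g subs := gen_extG defs P.g 7 (by decide +kernel)
theorem so1 : (m P).orb (gen (m P).g subs) ((m P).φ (ev (m P).g [8]) 0) = Set.Ico 1 (1 + 1360) := by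
  rw [(m P).apply_w (Model.via _ (mR P) (fun R => Nat.ble (Nat.succ 0) R.N) (by decide +kernel)) (Model.via _ (mR P) (fun R => mapsW R [8] (Nat.pow 2 0) (Nat.pow 2 137)) c14)]
  exact (m P).orb_eq_ico' ((m P).inOrb_mono (((m P).gen_le_pst (Model.via _ (mR P) (fun R => Model.fixW R [0] [[9], [10]]) c12)).trans (stab P).2.ge) (sub1 P)) le_rfl (Model.via _ (mR P) (fun R => Model.invW R [[0], [2], [3], [4], [5], [0, 1, 0, 1], [1, 2, 3, 4, 1, 2, 3, 4, 1, 2, 3, 4, 1, 2, 3, 4, 1, 2, 3, 4, 1, 2, 3, 4, 1, 2, 3, 4]] 1 1360) c28) (by decide)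
theorem co1 : ∃ q : G ⧸ gen (m P).g subs, (MulAction.orbit (gen (m P).g subs) q).ncard = 1360 :=
  ⟨_, ((m P).ncard_orbit_coset (stab P).2 _ _).1.trans (by rw [so1 P, Model.ncard_ico])⟩
theorem so1361 : (m P).orb (gen (m P).g subs) ((m P).φ (ev (m P).g [7]) 0) = Set.Ico 1361 (1361 + 425) := by
  rw [(m P).apply_w (Model.via _ (mR P) (fun R => Nat.ble (Nat.succ 0) R.N) (by decide +kernel)) (Model.via _ (mR P) (fun R => mapsW R [7] (Nat.pow 2 0) (Nat.pow 2 1561)) c17)]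
  exact (m P).orb_eq_ico' ((m P).inOrb_mono (((m P).gen_le_pst (Model.via _ (mR P) (fun R => Model.fixW R [0] [[9], [10]]) c12)).trans (stab P).2.ge) (sub1361 P)) le_rfl (Model.via _ (mR P) (fun R => Model.invW R [[0], [2], [3], [4], [5], [0, 1, 0, 1], [1, 2, 3, 4, 1, 2, 3, 4, 1, 2, 3, 4, 1, 2, 3, 4, 1, 2, 3, 4, 1, 2, 3, 4, 1, 2, 3, 4]] 1361 425) c29) (by decide)
theorem co1361 : ∃ q : G ⧸ gen (m P).g subs, (MulAction.orbit (gen (m P).g subs) q).ncard = 425 :=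
  ⟨_, ((m P).ncard_orbit_coset (stab P).2 _ _).1.trans (by rw [so1361 P, Model.ncard_ico])⟩
theorem so1786 : (m P).orb (gen (m P).g subs) ((m P).φ (ev (m P).g [7, 8, 7]) 0) = Set.Ico 1786 (1786 + 136) := by
  rw [(m P).apply_w (Model.via _ (mR P) (fun R => Nat.ble (Nat.succ 0) R.N) (by decide +kernel)) (Model.via _ (mR P) (fun R => mapsW R [7, 8, 7] (Nat.pow 2 0) (Nat.pow 2 1788)) c20)]
  exact (m P).orb_eq_ico' ((m P).inOrb_mono (((m P).gen_le_pst (Model.via _ (mR P) (fun R => Model.fixW R [0] [[9], [10]]) c12)).trans (stab P).2.ge) (sub1786 P)) le_rfl (Model.via _ (mR P) (fun R => Model.invW R [[0], [2], [3], [4], [5], [0, 1, 0, 1], [1, 2, 3, 4, 1, 2, 3, 4, 1, 2, 3, 4, 1, 2, 3, 4, 1, 2, 3, 4, 1, 2, 3, 4, 1, 2, 3, 4]] 1786 136) c30) (by decide)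
theorem co1786 : ∃ q : G ⧸ gen (m P).g subs, (MulAction.orbit (gen (m P).g subs) q).ncard = 136 :=
  ⟨_, ((m P).ncard_orbit_coset (stab P).2 _ _).1.trans (by rw [so1786 P, Model.ncard_ico])⟩
theorem so1922 : (m P).orb (gen (m P).g subs) ((m P).φ (ev (m P).g [8, 8, 7, 8]) 0) = Set.Ico 1922 (1922 + 136) := by
  rw [(m P).apply_w (Model.via _ (mR P) (fun R => Nat.ble (Nat.succ 0) R.N) (by decide +kernel)) (Model.via _ (mR P) (fun R => mapsW R [8, 8, 7, 8] (Nat.pow 2 0) (Nat.pow 2 2039)) c23)]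
  exact (m P).orb_eq_ico' ((m P).inOrb_mono (((m P).gen_le_pst (Model.via _ (mR P) (fun R => Model.fixW R [0] [[9], [10]]) c12)).trans (stab P).2.ge) (sub1922 P)) le_rfl (Model.via _ (mR P) (fun R => Model.invW R [[0], [2], [3], [4], [5], [0, 1, 0, 1], [1, 2, 3, 4, 1, 2, 3, 4, 1, 2, 3, 4, 1, 2, 3, 4, 1, 2, 3, 4, 1, 2, 3, 4, 1, 2, 3, 4]] 1922 136) c31) (by decide)
theorem co1922 : ∃ q : G ⧸ gen (m P).g subs, (MulAction.orbit (gen (m P).g subs) q).ncard = 136 :=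
  ⟨_, ((m P).ncard_orbit_coset (stab P).2 _ _).1.trans (by rw [so1922 P, Model.ncard_ico])⟩
end H0.MHe
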